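import Mathlib.Algebra.QuadraticAlgebra.Basic
import Mathlib.Algebra.Polynomial.Laurent
import Mathlib.Algebra.Polynomial.Splits
import Mathlib.Algebra.MvPolynomial.Funext
import Mathlib.RingTheory.GradedAlgebra.HomogeneousLocalization
import Mathlib.RingTheory.MvPolynomial.Homogeneous
import Mathlib.FieldTheory.Separable
import Mathlib.FieldTheory.Finite.Basic
import Mathlib.Tactic

/-! Automorphisms of the complement of an irreducible conic point pair in the projective line. -/

namespace Groth.Agent.ConicAut

open LaurentPolynomial QuadraticAlgebra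
open scoped LaurentPolynomial

universe u

theorem laurent_isUnit {L : Type*} [Field L] {p : L[T;T⁻¹]} (hp : IsUnit p) :
    ∃ (a : L) (n : ℤ), a ≠ 0 ∧ p = C a * T n := by
  obtain ⟨r, hr⟩ := hp.exists_right_inv
  obtain ⟨i, p', hp'⟩ := exists_T_pow p
  obtain ⟨j, r', hr'⟩ := exists_T_pow r
  have h : p' * r' = Polynomial.X ^ (i + j) := by
    apply Polynomial.toLaurent_injective
    rw [map_mul, hp', hr', Polynomial.toLaurent_X_pow, mul_mul_mul_comm, hr, one_mul, ← T_add]
    push_cast; rfl
  obtain ⟨m, _, hm⟩ := (dvd_prime_pow Polynomial.prime_X _).1 ⟨r', h.symm⟩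
  obtain ⟨u, hu⟩ := hm.symm
  obtain ⟨a, ha, hau⟩ := Polynomial.isUnit_iff.1 u.isUnit
  refine ⟨a, (m : ℤ) - i, ha.ne_zero, ?_⟩
  have : p * T i = C a * T m := by
    rw [← hp', ← hu, ← hau, map_mul, Polynomial.toLaurent_X_pow, Polynomial.toLaurent_C, T_mul]
  calc p = p * T i * T (-(i : ℤ)) := by rw [mul_T_assoc, add_neg_cancel, T_zero, mul_one]
    _ = _ := by rw [this, mul_T_assoc]; ring_nf

theorem C_mul_T_inj {L : Type*} [Field L] {a b : L} {m n : ℤ} (ha : a ≠ 0)
    (h : (C a * T m : L[T;T⁻¹]) = C b * T n) : m = n ∧ a = b := by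
  have hc : (AddMonoidAlgebra.single m a : L[T;T⁻¹]) = AddMonoidAlgebra.single n b := by
    rw [single_eq_C_mul_T, single_eq_C_mul_T, h]
  have hc' := congrArg AddMonoidAlgebra.coeff hc
  rw [AddMonoidAlgebra.coeff_single, AddMonoidAlgebra.coeff_single] at hc'
  rcases (Finsupp.single_eq_single_iff ..).1 hc' with h' | h'
  · exact h'
  · exact absurd h'.1 ha

theorem infinite_of_rootsOfUnity (K : Type u) [Field K]
    (hK : ∀ n : ℕ, 0 < n → (Polynomial.X ^ n - 1 : Polynomial K).Splits) : Infinite K := by
  classical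
  by_contra hfin
  rw [not_infinite_iff_finite] at hfin
  have := Fintype.ofFinite K
  set N := Fintype.card K with hN
  have hsep : (Polynomial.X ^ (N + 1) - 1 : Polynomial K).Separable :=
    Polynomial.X_pow_sub_one_separable_iff.2 (by
      push_cast
      rw [hN, FiniteField.cast_card_eq_zero, zero_add]
      exact one_ne_zero)
  have hroots := Polynomial.nodup_roots hsep
  have hcard := (hK (N + 1) (Nat.succ_pos _)).natDegree_eq_card_roots
  rw [show (1 : Polynomial K) = Polynomial.C 1 from rfl, Polynomial.natDegree_X_pow_sub_C] at hcard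
  have hle : (Polynomial.X ^ (N + 1) - Polynomial.C 1 : Polynomial K).roots.card ≤ N := by
    rw [← Multiset.toFinset_card_of_nodup (by simpa using hroots)]
    exact Finset.card_le_univ _
  omega

variable {K : Type u} [Field K] (c b : K) [hF : Fact (∀ r : K, r ^ 2 ≠ c + b * r)]

local notation "L" => QuadraticAlgebra K c b

/-- The root. -/
abbrev α : L := ω

/-- The conjugate root. -/
abbrev β : L := star (ω : QuadraticAlgebra K c b)

omit hF in
theorem sub_ne_zero' (hsep : b ≠ 0 ∨ (2 : K) ≠ 0) : β c b - α c b ≠ 0 := by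
  intro h
  have h1 := congrArg QuadraticAlgebra.re h
  have h2 := congrArg QuadraticAlgebra.im h
  simp at h1 h2
  rcases hsep with h' | h'
  · exact h' h1
  · apply h'
    linear_combination -h2

/-- The coefficient map. -/
noncomputable def κ : K →+* L[T;T⁻¹] := LaurentPolynomial.C.comp (algebraMap K L)

/-- The images of the variables. -/
noncomputable def pt (i : Fin 2) : L[T;T⁻¹] :=
  if i = 0 then C (β c b - α c b)⁻¹ * (C (β c b) * T 1 - C (α c b))
  else C (β c b - α c b)⁻¹ * (T 1 - 1)

/-- Evaluation at the moving point. -/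
noncomputable def φ : MvPolynomial (Fin 2) K →+* L[T;T⁻¹] := MvPolynomial.eval₂Hom (κ c b) (pt c b)

/-- Conjugation: conjugate coefficients and invert the variable. -/
noncomputable def σ : L[T;T⁻¹] →+* L[T;T⁻¹] :=
  LaurentPolynomial.eval₂ (LaurentPolynomial.C.comp (starRingEnd L)) (isUnit_T (R := L) (-1)).unit

theorem σ_T (n : ℤ) : σ c b (T n) = T (-n) := by
  rw [σ, eval₂_T]
  have : ∀ n : ℤ, ((isUnit_T (R := L) (-1)).unit ^ n).val = T (-n) := by
    intro n
    induction n using Int.induction_on with
    | zero => simp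
    | succ i ih =>
      rw [zpow_add_one, Units.val_mul, ih, IsUnit.unit_spec, ← T_add]
      congr 1; ring
    | pred i ih =>
      rw [zpow_sub_one, Units.val_mul, ih, Units.inv_eq_of_mul_eq_one_right (a := T 1)
        (by rw [IsUnit.unit_spec, ← T_add]; simp), ← T_add]
      congr 1; ring
  exact this n

theorem σ_C (a : L) : σ c b (C a) = C (star a) := by
  rw [σ, eval₂_C]
  rfl

omit hF in
theorem star_algebraMap' (k : K) : star (algebraMap K L k) = algebraMap K L k := by
  ext <;> simp

theorem σ_pt (i : Fin 2) : σ c b (pt c b i) = T (-1) * pt c b i := by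
  have hT : (T (-1) : L[T;T⁻¹]) * T 1 = 1 := by rw [← T_add]; simp
  have hstar : star (β c b - α c b)⁻¹ = -(β c b - α c b)⁻¹ := by
    have h := map_inv₀ (starRingEnd L) (β c b - α c b)
    rw [starRingEnd_apply] at h
    rw [h, ← inv_neg, starRingEnd_apply, star_sub, β, α, star_star, neg_sub]
  fin_cases i <;>
    simp only [pt, Fin.zero_eta, Fin.mk_one, if_true, if_false, Fin.isValue, one_ne_zero,
      map_mul, map_sub, σ_C, σ_T, map_one, hstar, β, α, star_star, map_neg]
  · linear_combination (-(C (star (ω : QuadraticAlgebra K c b) - ω)⁻¹ *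
      C (star (ω : QuadraticAlgebra K c b)))) * hT
  · linear_combination (-(C (star (ω : QuadraticAlgebra K c b) - ω)⁻¹)) * hT

theorem σ_φ {n : ℕ} {f : MvPolynomial (Fin 2) K} (hf : f.IsHomogeneous n) :
    σ c b (φ c b f) = T (-(n : ℤ)) * φ c b f := by
  conv_lhs => rw [f.as_sum]
  conv_rhs => rw [f.as_sum]
  simp only [map_sum, Finset.mul_sum]
  refine Finset.sum_congr rfl fun d hd => ?_
  have hdeg : ∑ i ∈ d.support, d i = n := by
    have := hf (MvPolynomial.mem_support_iff.1 hd)
    rw [← this, ← Finsupp.degree_apply, Finsupp.degree_eq_weight_one]; rfl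
  simp only [φ, MvPolynomial.eval₂Hom_monomial, map_mul, κ, RingHom.comp_apply, σ_C,
    star_algebraMap', Finsupp.prod, map_prod, map_pow, σ_pt, mul_pow, Finset.prod_mul_distrib,
    Finset.prod_pow_eq_pow_sum]
  rw [← hdeg, T_pow]
  push_cast
  simp
  ring

theorem φ_ell (hsep : b ≠ 0 ∨ (2 : K) ≠ 0) :
    pt c b 0 - C (α c b) * pt c b 1 = T 1 ∧ pt c b 0 - C (β c b) * pt c b 1 = 1 := by
  have h := congrArg (LaurentPolynomial.C (R := L)) (inv_mul_cancel₀ (sub_ne_zero' c b hsep))
  rw [map_mul, map_sub, map_one] at h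
  simp only [pt, if_true, one_ne_zero, if_false]
  constructor
  · linear_combination (T 1) * h
  · linear_combination h

/-- A nonzero form vanishing on the moving point does not exist. -/
theorem φ_injective [Infinite K] (hsep : b ≠ 0 ∨ (2 : K) ≠ 0) {n : ℕ}
    {f : MvPolynomial (Fin 2) K} (hf : f.IsHomogeneous n) (h0 : φ c b f = 0) : f = 0 := by
  have key : ∀ v : Fin 2 → K, v ≠ 0 → MvPolynomial.eval v f = 0 := by
    intro v hv
    set x : L := algebraMap K L (v 0) with hx
    set y : L := algebraMap K L (v 1) with hy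
    have hne : ∀ γ : L, γ.im ≠ 0 → x - γ * y ≠ 0 := by
      intro γ hγ h
      have h2 := congrArg QuadraticAlgebra.im h
      simp [hx, hy, hγ] at h2
      have h1 := congrArg QuadraticAlgebra.re h
      simp [hx, hy, h2] at h1
      exact hv (funext fun i => by fin_cases i <;> simp [h1, h2])
    have hα := hne (α c b) (by simp)
    have hβ := hne (β c b) (by simp)
    set t : Lˣ := Units.mk0 ((x - α c b * y) / (x - β c b * y)) (div_ne_zero hα hβ)
    let ev : L[T;T⁻¹] →+* L := LaurentPolynomial.eval₂ (RingHom.id L) t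
    have hd := sub_ne_zero' c b hsep
    have hev : ∀ i, (x - β c b * y) * ev (pt c b i) = algebraMap K L (v i) := by
      intro i
      fin_cases i <;>
        simp only [pt, ev, Fin.zero_eta, Fin.mk_one, if_true, if_false, Fin.isValue, one_ne_zero,
          map_mul, map_sub, map_one, eval₂_C, eval₂_T, RingHom.id_apply, zpow_one, t, Units.val_mk0]
      · rw [← hx]; field_simp; ring
      · rw [← hy]; field_simp; ring
    have h1 : ev (φ c b f) = 0 := by rw [h0, map_zero]
    apply (algebraMap K L).injective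
    rw [map_zero, MvPolynomial.eval_eq, map_sum]
    have h2 : ∑ d ∈ f.support, algebraMap K L (f.coeff d * ∏ i ∈ d.support, v i ^ d i) =
        (x - β c b * y) ^ n * ev (φ c b f) := by
      conv_rhs => rw [f.as_sum]
      simp only [map_sum, Finset.mul_sum]
      refine Finset.sum_congr rfl fun d hd' => ?_
      have hdeg : ∑ i ∈ d.support, d i = n := by
        have := hf (MvPolynomial.mem_support_iff.1 hd')
        rw [← this, ← Finsupp.degree_apply, Finsupp.degree_eq_weight_one]; rfl
      simp only [φ, MvPolynomial.eval₂Hom_monomial, map_mul, κ, RingHom.comp_apply,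
        Finsupp.prod, map_prod, map_pow, ← hev, mul_pow, Finset.prod_mul_distrib,
        Finset.prod_pow_eq_pow_sum]
      rw [← hdeg]
      simp [ev]
      ring
    rw [h2, h1, mul_zero]
  rcases Nat.eq_zero_or_pos n with rfl | hn
  · obtain ⟨a, rfl⟩ : ∃ a, f = MvPolynomial.C a :=
      ⟨_, MvPolynomial.totalDegree_eq_zero_iff_eq_C.1 (Nat.le_zero.1 hf.totalDegree_le)⟩
    have := key ![1, 0] (fun h => by simpa using congrFun h 0)
    simp at this
    simp [this]
  · refine MvPolynomial.funext fun v => ?_
    rw [map_zero]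
    by_cases hv : v = 0
    · subst hv
      rw [MvPolynomial.eval_zero]
      exact hf.coeff_eq_zero (by simp; omega)
    · exact key v hv

end Groth.Agent.ConicAut
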