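import Groth.Agent.ConicAut.Basic

/-! The coordinate ring of the complement and the extension of its automorphisms. -/

namespace Groth.Agent.ConicAut

open LaurentPolynomial QuadraticAlgebra
open scoped LaurentPolynomial

universe u

attribute [local instance] MvPolynomial.gradedAlgebra

variable {K : Type u} [Field K] (c b : K) [hF : Fact (∀ r : K, r ^ 2 ≠ c + b * r)]

local notation "L" => QuadraticAlgebra K c b

/-- The data of the binary quadratic form. -/
structure Datum where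
  /-- leading coefficient -/
  A : K
  hA : A ≠ 0
  /-- the form -/
  q : MvPolynomial (Fin 2) K
  hq : q.IsHomogeneous 2
  hφ : φ c b q = κ c b A * T 1
  hsep : b ≠ 0 ∨ (2 : K) ≠ 0
  hinf : Infinite K

variable {c b} (D : Datum c b)

/-- The coordinate ring of the complement. -/
abbrev Datum.B : Type u :=
  HomogeneousLocalization.Away (MvPolynomial.homogeneousSubmodule (Fin 2) K) D.q

theorem Datum.isUnit_q : IsUnit (φ c b D.q) := by
  rw [D.hφ]
  exact (((isUnit_iff_ne_zero.2 D.hA).map (κ c b))).mul (isUnit_T 1)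

/-- The embedding into Laurent polynomials. -/
noncomputable def Datum.ι : D.B →+* L[T;T⁻¹] :=
  (IsLocalization.Away.lift (S := Localization.Away D.q) D.q D.isUnit_q).comp
    (algebraMap D.B (Localization.Away D.q))

theorem Datum.lift_algebraMap (f : MvPolynomial (Fin 2) K) :
    IsLocalization.Away.lift (S := Localization.Away D.q) D.q D.isUnit_q
      (algebraMap _ (Localization.Away D.q) f) = φ c b f :=
  IsLocalization.Away.lift_eq _ _ _

theorem Datum.hqmem : D.q ∈ MvPolynomial.homogeneousSubmodule (Fin 2) K 2 := D.hq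

theorem Datum.ι_mk (n : ℕ) (f : MvPolynomial (Fin 2) K)
    (hf : f ∈ MvPolynomial.homogeneousSubmodule (Fin 2) K (n • 2)) :
    D.ι (HomogeneousLocalization.Away.mk _ D.hqmem n f hf) * φ c b D.q ^ n = φ c b f := by
  rw [Datum.ι, RingHom.comp_apply, HomogeneousLocalization.algebraMap_apply,
    HomogeneousLocalization.Away.val_mk, ← map_pow, ← D.lift_algebraMap, ← map_mul,
    Localization.mk_eq_mk', ← D.lift_algebraMap f]
  congr 1
  exact IsLocalization.mk'_spec _ f _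

theorem Datum.ι_smul (k : K) (z : D.B) : D.ι (k • z) = κ c b k * D.ι z := by
  rw [Datum.ι, RingHom.comp_apply, RingHom.comp_apply, HomogeneousLocalization.algebraMap_apply,
    HomogeneousLocalization.algebraMap_apply, HomogeneousLocalization.val_smul, Algebra.smul_def,
    map_mul]
  congr 1
  rw [IsScalarTower.algebraMap_apply K (MvPolynomial (Fin 2) K) (Localization.Away D.q),
    D.lift_algebraMap, MvPolynomial.algebraMap_eq, φ, MvPolynomial.eval₂Hom_C]

theorem Datum.ι_surj (z : D.B) : ∃ (n : ℕ) (f : MvPolynomial (Fin 2) K),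
    f.IsHomogeneous (n • 2) ∧ D.ι z * φ c b D.q ^ n = φ c b f := by
  obtain ⟨n, f, hf, rfl⟩ := HomogeneousLocalization.Away.mk_surjective _ D.hqmem z
  exact ⟨n, f, hf, D.ι_mk n f hf⟩

theorem Datum.σ_ι (z : D.B) : σ c b (D.ι z) = D.ι z := by
  obtain ⟨n, f, hf, h⟩ := D.ι_surj z
  have h1 := congrArg (σ c b) h
  rw [map_mul, map_pow, σ_φ c b D.hq, σ_φ c b hf, mul_pow, T_pow, ← h] at h1
  have e : (T ((n : ℤ) * -((2 : ℕ) : ℤ)) : L[T;T⁻¹]) = T (-((n • 2 : ℕ) : ℤ)) := by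
    congr 1
  rw [e] at h1
  refine (((isUnit_T (R := L) (-((n • 2 : ℕ) : ℤ))).mul (D.isUnit_q.pow n)).mul_left_inj).1 ?_
  linear_combination h1

theorem Datum.ι_injective : Function.Injective D.ι := by
  rw [injective_iff_map_eq_zero]
  intro z hz
  obtain ⟨n, f, hf, rfl⟩ := HomogeneousLocalization.Away.mk_surjective _ D.hqmem z
  have h := D.ι_mk n f hf
  rw [hz, zero_mul] at h
  have := D.hinf
  have hf0 := φ_injective c b D.hsep (f := f) hf h.symm
  apply HomogeneousLocalization.val_injective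
  rw [HomogeneousLocalization.Away.val_mk, HomogeneousLocalization.val_zero, Localization.mk_eq_mk', hf0,
    IsLocalization.mk'_zero]

theorem Datum.g_smul_aux (g : D.B ≃+* D.B) (hg : ∀ (k : K) z, g (k • z) = k • g z) (k : K) :
    D.ι (g (k • 1)) = κ c b k := by
  rw [hg, map_one, D.ι_smul, map_one, mul_one]

/-- The decomposition over the quadratic extension. -/
noncomputable def Datum.Ψ (p : D.B × D.B) : L[T;T⁻¹] := D.ι p.1 + C (α c b) * D.ι p.2

omit hF in
theorem α_mul_α : α c b * α c b = algebraMap K L c + algebraMap K L b * α c b := by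
  ext <;> simp

omit hF in
theorem β_eq : β c b = algebraMap K L b - α c b := by
  ext <;> simp

theorem Cα_mul : C (α c b) * C (α c b) = κ c b c + κ c b b * C (α c b) := by
  rw [← map_mul, α_mul_α, map_add, map_mul]; rfl

theorem Cβ_eq : C (β c b) = κ c b b - C (α c b) := by
  rw [β_eq, map_sub]; rfl

theorem Datum.Ψ_mul (p p' : D.B × D.B) : D.Ψ p * D.Ψ p' =
    D.Ψ (p.1 * p'.1 + c • (p.2 * p'.2), p.1 * p'.2 + p.2 * p'.1 + b • (p.2 * p'.2)) := by
  simp only [Datum.Ψ, map_add, map_mul, D.ι_smul]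
  linear_combination (D.ι p.2 * D.ι p'.2) * Cα_mul (c := c) (b := b)

theorem Datum.Ψ_add (p p' : D.B × D.B) : D.Ψ p + D.Ψ p' = D.Ψ (p + p') := by
  simp only [Datum.Ψ, Prod.fst_add, Prod.snd_add, map_add]
  ring

theorem Datum.σ_Ψ (p : D.B × D.B) : σ c b (D.Ψ p) = D.Ψ (p.1 + b • p.2, -p.2) := by
  simp only [Datum.Ψ, map_add, map_mul, map_neg, D.σ_ι, D.ι_smul, σ_C]
  rw [show star (α c b) = β c b from rfl, Cβ_eq]
  ring

theorem Datum.Ψ_injective : Function.Injective D.Ψ := by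
  intro p p' h
  have h1 := congrArg (σ c b) h
  simp only [Datum.Ψ, map_add, map_mul, D.σ_ι, σ_C] at h h1
  rw [show star (α c b) = β c b from rfl] at h1
  have hd : IsUnit (C (β c b - α c b) : L[T;T⁻¹]) :=
    (isUnit_iff_ne_zero.2 (sub_ne_zero' c b D.hsep)).map LaurentPolynomial.C
  have h2 : D.ι p.2 = D.ι p'.2 := by
    refine hd.mul_right_inj.1 ?_
    rw [map_sub]
    linear_combination h1 - h
  refine Prod.ext (D.ι_injective ?_) (D.ι_injective h2)
  linear_combination h - C (α c b) * h2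

theorem Datum.Ψ_C (a : L) : D.Ψ (a.re • 1, a.im • 1) = C a := by
  simp only [Datum.Ψ, D.ι_smul, map_one, mul_one, κ, RingHom.comp_apply, ← map_mul, ← map_add]
  congr 1
  ext <;> simp

theorem Datum.exists_T : ∃ p, D.Ψ p = T 1 := by
  have hX : ∀ i j : Fin 2, (MvPolynomial.X i * MvPolynomial.X j : MvPolynomial (Fin 2) K) ∈
      MvPolynomial.homogeneousSubmodule (Fin 2) K (1 • 2) := fun i j =>
    (MvPolynomial.isHomogeneous_X K i).mul (MvPolynomial.isHomogeneous_X K j)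
  let m : Fin 2 → Fin 2 → D.B := fun i j =>
    HomogeneousLocalization.Away.mk _ D.hqmem 1 (MvPolynomial.X i * MvPolynomial.X j) (hX i j)
  have hm : ∀ i j, D.ι (m i j) * (κ c b D.A * T 1) = pt c b i * pt c b j := fun i j => by
    have := D.ι_mk 1 _ (hX i j)
    rw [pow_one, D.hφ] at this
    rw [this, φ, map_mul, MvPolynomial.eval₂Hom_X', MvPolynomial.eval₂Hom_X']
  refine ⟨(D.A • (m 0 0 + c • m 1 1), D.A • ((-2 : K) • m 0 1 + b • m 1 1)), ?_⟩
  refine ((isUnit_T (R := L) 1).mul_left_inj).1 ?_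
  simp only [Datum.Ψ, D.ι_smul, map_add, map_neg, map_ofNat]
  have h0 := (φ_ell c b D.hsep).1
  linear_combination hm 0 0 + (κ c b c) * hm 1 1 + (-2 * C (α c b)) * hm 0 1 +
    (C (α c b) * κ c b b) * hm 1 1 - (pt c b 1 * pt c b 1) * Cα_mul (c := c) (b := b) +
    (pt c b 0 - C (α c b) * pt c b 1 + T 1) * h0

theorem Datum.exists_T_zpow (n : ℤ) : ∃ p, D.Ψ p = T n := by
  obtain ⟨p, hp⟩ := D.exists_T
  induction n using Int.induction_on with
  | zero => exact ⟨((1 : L).re • 1, (1 : L).im • 1), by rw [D.Ψ_C, map_one, T_zero]⟩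
  | succ i ih => obtain ⟨p', hp'⟩ := ih; exact ⟨_, by rw [← D.Ψ_mul p' p, hp', hp, T_add]⟩
  | pred i ih =>
    obtain ⟨p', hp'⟩ := ih
    have h1 := D.σ_Ψ p
    rw [hp, σ_T] at h1
    exact ⟨_, by rw [← D.Ψ_mul p' (p.1 + b • p.2, -p.2), hp', ← h1, ← T_add, sub_eq_add_neg]⟩

theorem Datum.Ψ_surjective : Function.Surjective D.Ψ := by
  intro P
  induction P using LaurentPolynomial.induction_on' with
  | add P Q hP hQ =>
    obtain ⟨p, rfl⟩ := hP; obtain ⟨p', rfl⟩ := hQ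
    exact ⟨p + p', (D.Ψ_add p p').symm⟩
  | C_mul_T n a =>
    obtain ⟨p, hp⟩ := D.exists_T_zpow n
    exact ⟨_, by rw [← D.Ψ_C, ← hp, D.Ψ_mul]⟩

/-- Decomposition as an equivalence. -/
noncomputable def Datum.Ψe : D.B × D.B ≃ L[T;T⁻¹] :=
  Equiv.ofBijective D.Ψ ⟨D.Ψ_injective, D.Ψ_surjective⟩

/-- The extension of an automorphism to Laurent polynomials over the quadratic extension. -/
noncomputable def Datum.ext (g : D.B ≃+* D.B) (P : L[T;T⁻¹]) : L[T;T⁻¹] :=
  D.Ψ (g (D.Ψe.symm P).1, g (D.Ψe.symm P).2)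

theorem Datum.ext_Ψ (g : D.B ≃+* D.B) (p : D.B × D.B) : D.ext g (D.Ψ p) = D.Ψ (g p.1, g p.2) := by
  have : D.Ψe.symm (D.Ψ p) = p := D.Ψe.symm_apply_apply p
  rw [Datum.ext, this]

variable (g : D.B ≃+* D.B) (hg : ∀ (k : K) z, g (k • z) = k • g z)
include hg

theorem Datum.ext_mul (P Q : L[T;T⁻¹]) : D.ext g (P * Q) = D.ext g P * D.ext g Q := by
  obtain ⟨p, rfl⟩ := D.Ψ_surjective P
  obtain ⟨p', rfl⟩ := D.Ψ_surjective Q
  rw [D.Ψ_mul, D.ext_Ψ, D.ext_Ψ, D.ext_Ψ, D.Ψ_mul]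
  simp only [map_add, map_mul, hg]

theorem Datum.ext_add (P Q : L[T;T⁻¹]) : D.ext g (P + Q) = D.ext g P + D.ext g Q := by
  obtain ⟨p, rfl⟩ := D.Ψ_surjective P
  obtain ⟨p', rfl⟩ := D.Ψ_surjective Q
  rw [D.Ψ_add, D.ext_Ψ, D.ext_Ψ, D.ext_Ψ, D.Ψ_add]
  simp [Prod.mk_add_mk]

theorem Datum.ext_C (a : L) : D.ext g (C a) = C a := by
  rw [← D.Ψ_C, D.ext_Ψ]
  simp [hg]

theorem Datum.ext_σ (P : L[T;T⁻¹]) : D.ext g (σ c b P) = σ c b (D.ext g P) := by
  obtain ⟨p, rfl⟩ := D.Ψ_surjective P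
  rw [D.σ_Ψ, D.ext_Ψ, D.ext_Ψ, D.σ_Ψ]
  simp [hg]

end Groth.Agent.ConicAut
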